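import Mathlib.LinearAlgebra.Eigenspace.Basic
import Mathlib.RingTheory.Noetherian.Basic
import Mathlib.RingTheory.Finiteness.Defs

/-! Simultaneous diagonalisation of locally finite commuting families over a Noetherian algebra. -/

set_option autoImplicit false
universe u v w x

namespace Groth.Agent.SimDiag

open Submodule

variable {k : Type u} [Field k] {R : Type v} [CommRing R] [Algebra k R]
  {V : Type w} [AddCommGroup V] [Module R V] [Module k V] [IsScalarTower k R V]

/-- Components of a vector of a stable submodule along distinct eigenvalues lie in the submodule. -/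
lemma mem_of_sum_eigen (f : Module.End R V) (p : Submodule R V) (hp : ∀ v ∈ p, f v ∈ p)
    (s : Finset k) : ∀ x : k → V, (∀ μ ∈ s, f (x μ) = μ • x μ) → (∑ μ ∈ s, x μ) ∈ p →
      ∀ μ ∈ s, x μ ∈ p := by
  classical
  induction s using Finset.induction_on with
  | empty => simp
  | @insert ν s hν ih =>
    intro x hx hsum
    have hsmul : ∀ (c : k) (v : V), v ∈ p → c • v ∈ p := fun c v hv => by
      rw [← algebraMap_smul R c v]; exact p.smul_mem _ hv
    have h1 : ∑ μ ∈ s, (μ - ν) • x μ ∈ p := by
      have e : f (∑ μ ∈ insert ν s, x μ) - ν • (∑ μ ∈ insert ν s, x μ) =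
          ∑ μ ∈ s, (μ - ν) • x μ := by
        rw [map_sum, Finset.smul_sum, ← Finset.sum_sub_distrib, Finset.sum_insert hν]
        rw [hx ν (Finset.mem_insert_self _ _), sub_self, zero_add]
        exact Finset.sum_congr rfl fun μ hμ => by
          rw [hx μ (Finset.mem_insert_of_mem hμ), sub_smul]
      rw [← e]
      exact p.sub_mem (hp _ hsum) (hsmul _ _ hsum)
    have h2 : ∀ μ ∈ s, x μ ∈ p := by
      intro μ hμ
      have hne : μ - ν ≠ 0 := sub_ne_zero.mpr fun h => hν (h ▸ hμ)
      have := hsmul (μ - ν)⁻¹ _ (ih (fun μ => (μ - ν) • x μ) (fun μ hμ => by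
        rw [← algebraMap_smul R (μ - ν), map_smul, hx μ (Finset.mem_insert_of_mem hμ),
          algebraMap_smul, algebraMap_smul, smul_comm]) h1 μ hμ)
      rwa [smul_smul, inv_mul_cancel₀ hne, one_smul] at this
    intro μ hμ
    rcases Finset.mem_insert.mp hμ with rfl | hμ
    · rw [Finset.sum_insert hν] at hsum
      simpa using p.sub_mem hsum (p.sum_mem h2)
    · exact h2 μ hμ

theorem iSup_iInf_eigenspace_eq_top [IsNoetherianRing R] {ι : Type x} (f : ι → Module.End R V)
    (hcomm : ∀ i j, Commute (f i) (f j))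
    (hdiag : ∀ i, ⨆ μ : k, Module.End.eigenspace ((f i).restrictScalars k) μ = ⊤)
    (hfin : ∀ v : V, ∃ W : Submodule R V, v ∈ W ∧ W.FG ∧ ∀ i, ∀ w ∈ W, f i w ∈ W) :
    ⨆ χ : ι → k, ⨅ i, Module.End.eigenspace ((f i).restrictScalars k) (χ i) = ⊤ := by
  classical
  set S := ⨆ χ : ι → k, ⨅ i, Module.End.eigenspace ((f i).restrictScalars k) (χ i)
  let E : ι → k → Submodule R V := fun i μ => Module.End.eigenspace (f i) (algebraMap k R μ)
  have hE : ∀ i μ v, v ∈ E i μ ↔ v ∈ Module.End.eigenspace ((f i).restrictScalars k) μ := by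
    intro i μ v
    simp [E, algebraMap_smul]
  rw [eq_top_iff]
  intro v _
  obtain ⟨W, hvW, hW, hWst⟩ := hfin v
  have : IsNoetherian R W := isNoetherian_of_fg_of_noetherian W hW
  suffices main : ∀ C : Submodule R W, ∀ N : Submodule R W,
      (∀ i, ∀ w ∈ N, ∃ w' ∈ N, (w' : V) = f i w) → Disjoint N C → ∀ w ∈ N, (w : V) ∈ S from
    main ⊥ ⊤ (fun i w _ => ⟨⟨_, hWst i w w.2⟩, trivial, rfl⟩) disjoint_bot_right ⟨v, hvW⟩ trivial
  intro C
  induction C using WellFoundedGT.induction with
  | ind C ih =>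
    intro N hN hNC w hw
    by_cases hsc : ∀ i, ∃ μ, ∀ w ∈ N, (w : V) ∈ E i μ
    · choose χ hχ using hsc
      exact Submodule.mem_iSup_of_mem χ (Submodule.mem_iInf _ |>.mpr fun i => (hE i _ _).mp (hχ i w hw))
    push Not at hsc
    obtain ⟨i, hi⟩ := hsc
    let N' : k → Submodule R W := fun μ => N ⊓ (E i μ).comap W.subtype
    let rest : k → Submodule R W := fun μ => ⨆ ν ∈ {ν | ν ≠ μ}, N' ν
    -- decompose a vector of `N` into eigenvectors inside `N`
    have hdec : ∀ w ∈ N, w ∈ ⨆ μ, N' μ := by
      intro w hw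
      obtain ⟨m, hm, hms⟩ := (Submodule.mem_iSup_iff_exists_finsupp _ _).mp
        ((hdiag i).ge (Submodule.mem_top (x := (w : V))))
      have hst : ∀ v ∈ N.map W.subtype, f i v ∈ N.map W.subtype := by
        rintro _ ⟨a, ha, rfl⟩
        obtain ⟨b, hb, e⟩ := hN i a ha
        exact ⟨b, hb, e⟩
      have hmem := mem_of_sum_eigen (f i) (N.map W.subtype) hst m.support (fun μ => m μ)
        (fun μ _ => by simpa using Module.End.mem_eigenspace_iff.mp (hm μ))
        (by rw [show (∑ μ ∈ m.support, m μ) = (w : V) from hms]; exact ⟨w, hw, rfl⟩)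
      choose! b hb hb' using hmem
      have : w = ∑ μ ∈ m.support, b μ := by
        apply Subtype.ext
        rw [Submodule.coe_sum, ← hms]
        exact (Finset.sum_congr rfl hb').symm
      rw [this]
      exact Submodule.sum_mem _ fun μ hμ => Submodule.mem_iSup_of_mem μ
        ⟨hb μ hμ, (hE i μ _).mpr (by rw [show W.subtype (b μ) = m μ from hb' μ hμ]; exact hm μ)⟩
    have hN'S : ∀ μ, ∀ w ∈ N' μ, (w : V) ∈ S := by
      intro μ w hw
      refine ih (C ⊔ rest μ) ?_ (N' μ) ?_ ?_ w hw
      · refine lt_of_le_of_ne le_sup_left fun heq => ?_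
        obtain ⟨w₀, hw₀, hw₀'⟩ := hi μ
        apply hw₀'
        have hrest : rest μ ≤ C := heq ▸ le_sup_right
        have hle : (⨆ ν, N' ν) ≤ N' μ := iSup_le fun ν => by
          by_cases h : ν = μ
          · rw [h]
          · have h1 : N' ν ≤ rest μ := le_biSup N' (show ν ∈ {ν | ν ≠ μ} from h)
            have h2 : N' ν ≤ N ⊓ C := le_inf inf_le_left (h1.trans hrest)
            rw [hNC.eq_bot] at h2
            exact h2.trans bot_le
        exact (hle (hdec w₀ hw₀)).2
      · rintro j w ⟨hwN, hwE⟩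
        obtain ⟨w', hw', e⟩ := hN j w hwN
        refine ⟨w', ⟨hw', ?_⟩, e⟩
        have hwE' := Module.End.mem_eigenspace_iff.mp (show (w : V) ∈ E i μ from hwE)
        change (w' : V) ∈ E i μ
        rw [e, Module.End.mem_eigenspace_iff]
        have hc : f i (f j (w : V)) = f j (f i (w : V)) := congr($((hcomm i j).eq) (w : V))
        rw [hc, hwE', map_smul]
      · rw [disjoint_def]
        intro a ha ha'
        obtain ⟨c, hc, r, hr, rfl⟩ := Submodule.mem_sup.mp ha'
        have hle : rest μ ≤ N := iSup₂_le (fun ν _ => inf_le_left)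
        have hrN : r ∈ N := hle hr
        have hc0 : c = 0 := disjoint_def.mp hNC c (by simpa using N.sub_mem ha.1 hrN) hc
        rw [hc0, zero_add] at ha ⊢
        have hind := Module.End.eigenspaces_iSupIndep ((f i).restrictScalars k)
        apply Subtype.ext
        refine disjoint_def.mp (hind μ) _ ((hE i μ _).mp ha.2) ?_
        refine Submodule.iSup_induction (fun ν => ⨆ (_ : ν ∈ {ν | ν ≠ μ}), N' ν)
          (motive := fun y : W => (y : V) ∈ ⨆ ν, ⨆ (_ : ν ≠ μ),
            Module.End.eigenspace ((f i).restrictScalars k) ν) hr ?_ (zero_mem _)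
          (fun y z hy hz => add_mem hy hz)
        intro ν y hy
        by_cases h : ν ∈ {ν | ν ≠ μ}
        · rw [iSup_pos h] at hy
          exact Submodule.mem_iSup_of_mem ν (Submodule.mem_iSup_of_mem h ((hE i ν _).mp hy.2))
        · rw [iSup_neg h, mem_bot] at hy
          rw [hy]
          exact zero_mem _
    exact Submodule.iSup_induction (fun μ => N' μ) (motive := fun y : W => (y : V) ∈ S) (hdec w hw)
      hN'S (zero_mem _) (fun y z hy hz => add_mem hy hz)

end Groth.Agent.SimDiag
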